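import Groth.Agent.H27Hodge.ExtRankOne
import Groth.Agent.H17.FLI.Adjunction
import Groth.Agent.H10Coh.HHSeq
import Groth.Agent.H10Coh.ProjFormulaFLF
import Groth.Agent.H11Ample.Converse
import Groth.Agent.H28Int.Push
import Groth.Agent.H7Flat.CohDim.H1

/-!
# Hodge cohomology of a smooth divisor whose negative twists have little cohomology
-/

set_option autoImplicit false
set_option linter.style.haveILetI false
set_option linter.unusedSectionVars false
set_option backward.isDefEq.respectTransparency.types false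
universe u

open CategoryTheory CategoryTheory.Limits AlgebraicGeometry Opposite TopologicalSpace
open Groth.Agent
attribute [local instance 10000] Groth.Agent.H10Coh.hasSheafifyAb Groth.Agent.H10Coh.hasWeakSheafifyAb Groth.Agent.H10Coh.hasExtAb Groth.Agent.H10Coh.enoughInjAb

noncomputable section

namespace Groth.Agent.H27Hodge

local notation "tensor" => CohB1.tensorMod

theorem interchange {X : Scheme.{u}} (A B C D : X.Modules) :
    Nonempty (tensor (tensor A B) (tensor C D) ≅ tensor (tensor A C) (tensor B D)) :=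
  ⟨H10Coh.Tw.assoc _ _ _ ≪≫ PicGrp.tensorModIso (Iso.refl A)
    ((H10Coh.Tw.assoc B C D).symm ≪≫ PicGrp.tensorModIso (H10Coh.Tw.commIso B C) (Iso.refl D) ≪≫
      H10Coh.Tw.assoc C B D) ≪≫ (H10Coh.Tw.assoc A C _).symm⟩

theorem nonempty_pow_inverse {X : Scheme.{u}} {I M : X.Modules} (φ : tensor M I ≅ Coh.structureModule X) :
    ∀ n : ℕ, Nonempty (tensor (CohB1.tensorPow M n) (CohB1.tensorPow I n) ≅ Coh.structureModule X)
  | 0 => ⟨H10Coh.Tw.leftUnitIso _⟩
  | n + 1 => by
    obtain ⟨e⟩ := nonempty_pow_inverse φ n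
    obtain ⟨i⟩ := interchange (CohB1.tensorPow M n) M (CohB1.tensorPow I n) I
    exact ⟨i ≪≫ PicGrp.tensorModIso e φ ≪≫ H10Coh.Tw.leftUnitIso _⟩

theorem subsingleton_HH_of_iso {X : Scheme.{u}} {M M' : X.Modules} (e : M ≅ M') {q : ℕ}
    (h : Subsingleton (Coh.HH X M q)) : Subsingleton (Coh.HH X M' q) :=
  subsingleton_of_forall_eq 0 fun x => by
    rw [← LeadFF.Hm_id (x := x), ← e.inv_hom_id, LeadFF.Hm_comp, h.elim (LeadFF.Hm e.inv q x) 0, map_zero]

variable {k : Type u} [Field k] {X : Scheme.{u}} [X.Over (Spec (CommRingCat.of k))]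

/-- With a subobject without cohomology in two degrees, a quotient has the cohomology of the middle. -/
theorem finrank_quot_eq {S : ShortComplex X.Modules} (hS : S.ShortExact) (q : ℕ)
    (h₁ : Subsingleton (Coh.HH X S.X₁ q)) (h₁' : Subsingleton (Coh.HH X S.X₁ (q + 1))) :
    Module.finrank k (Coh.HH X S.X₂ q) = Module.finrank k (Coh.HH X S.X₃ q) := by
  let g : Coh.HH X S.X₂ q →ₗ[k] Coh.HH X S.X₃ q :=
    { toFun := LeadFF.Hm S.g q
      map_add' := map_add _
      map_smul' := fun a x => by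
        rw [RingHom.id_apply, ← LeadFF.Hm_smulMod, ← LeadFF.Hm_smulMod, ← LeadFF.Hm_comp, ← LeadFF.Hm_comp,
          LeadFF.smulMod_natural] }
  refine (LinearEquiv.ofBijective g ⟨(injective_iff_map_eq_zero _).2 fun x hx => ?_, fun y => ?_⟩).finrank_eq
  · obtain ⟨z, rfl⟩ := LeadFF.exists_Hm_f hS q x hx
    rw [h₁.elim z 0, map_zero]
  · exact LeadFF.exists_Hm_g hS q y (h₁'.elim _ _)

variable {Y : Scheme.{u}} [Y.Over (Spec (CommRingCat.of k))] (I : X.IdealSheafData)

theorem ses_ideal : (ShortComplex.mk (ClSub.idealModι I) (ClSub.toSubscheme I) (kernel.condition _)).ShortExact :=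
  haveI := H10Coh.epi_toSubscheme I
  { exact := ShortComplex.exact_kernel _
    mono_f := inferInstanceAs (Mono (kernel.ι _)) }

/-- Bundles restricted to the closed subscheme. -/
theorem nonempty_quot_tensor {G : X.Modules} (hG : FlatMod.IsFinLocFree G) :
    Nonempty (tensor (ClSub.quotMod I) G ≅
      (Coh.push I.subschemeι).obj ((Scheme.Modules.pullback I.subschemeι).obj G)) := by
  have := H10Coh.PF.isIso_ψ_of_isFinLocFree I.subschemeι hG (Coh.structureModule I.subscheme)
  exact ⟨@asIso _ _ _ _ (H16Derived.ProjFormula.ψ I.subschemeι (Coh.structureModule I.subscheme) G) this ≪≫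
    (Coh.push I.subschemeι).mapIso (H10Coh.Tw.leftUnitIso _)⟩

variable [I.subscheme.Over (Spec (CommRingCat.of k))]
  (hover : I.subscheme ↘ Spec (CommRingCat.of k) = I.subschemeι ≫ X ↘ Spec (CommRingCat.of k))

include hover in
/-- Restriction of a bundle to a divisor in cohomology. -/
theorem finrank_restrict {G : X.Modules} (hG : FlatMod.IsFinLocFree G) (q : ℕ)
    (h₁ : Subsingleton (Coh.HH X (tensor (ClSub.idealMod I) G) q))
    (h₁' : Subsingleton (Coh.HH X (tensor (ClSub.idealMod I) G) (q + 1))) :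
    Module.finrank k (Coh.HH I.subscheme ((Scheme.Modules.pullback I.subschemeι).obj G) q) =
      Module.finrank k (Coh.HH X G q) := by
  haveI hq : ((Scheme.Modules.pullback I.subschemeι).obj G).IsQuasicoherent :=
    H29Fitt.isQCoh_pullback I.subschemeι G (H8Props.FinLocFree.isQCoh_of_isFinLocFree _ hG)
  have hS := H16Derived.KFlat.Stalk.isFlatObj_of_isFlat (H16Derived.KFlat.Stalk.isFlat_of_isFinLocFree hG) _
    (ses_ideal I)
  have h := finrank_quot_eq (k := k) hS q h₁ h₁'
  obtain ⟨e⟩ := nonempty_quot_tensor I hG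
  rw [← H28Int.Push.finrank_HH_push k I.subschemeι hover.symm _ q, ← (H10Coh.HHSeq.isoₗ (A := k) e q).finrank_eq,
    ← (H10Coh.HHSeq.isoₗ (A := k) (H10Coh.Tw.leftUnitIso G) q).finrank_eq]
  exact h.symm

/-- Vanishing restricted to a divisor. -/
theorem subsingleton_restrict {G : X.Modules} (hG : FlatMod.IsFinLocFree G) (q : ℕ)
    (h₂ : Subsingleton (Coh.HH X G q))
    (h₁' : Subsingleton (Coh.HH X (tensor (ClSub.idealMod I) G) (q + 1))) :
    Subsingleton (Coh.HH I.subscheme ((Scheme.Modules.pullback I.subschemeι).obj G) q) := by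
  haveI hq : ((Scheme.Modules.pullback I.subschemeι).obj G).IsQuasicoherent :=
    H29Fitt.isQCoh_pullback I.subschemeι G (H8Props.FinLocFree.isQCoh_of_isFinLocFree _ hG)
  have hS := H16Derived.KFlat.Stalk.isFlatObj_of_isFlat (H16Derived.KFlat.Stalk.isFlat_of_isFinLocFree hG) _
    (ses_ideal I)
  obtain ⟨e⟩ := nonempty_quot_tensor I hG
  exact @Equiv.subsingleton _ _
    (H7Flat.CohDim.lerayHH I.subschemeι ((Scheme.Modules.pullback I.subschemeι).obj G) q).toEquiv.symm
    (subsingleton_HH_of_iso e (H10Coh.HHSeq.subsingleton₃ hS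
      (subsingleton_HH_of_iso (H10Coh.Tw.leftUnitIso G).symm h₂) h₁'))

variable (n : ℕ) [SmoothOfRelativeDimension (n + 1) (X ↘ Spec (CommRingCat.of k))]
  [IsSeparated (X ↘ Spec (CommRingCat.of k))]
  [SmoothOfRelativeDimension n (I.subscheme ↘ Spec (CommRingCat.of k))]
  (hI : PicF.IsInvertible (ClSub.idealMod I))
  (hvan : ∀ j, 1 ≤ j → ∀ p q : ℕ, p + q ≤ n → ∀ E : X.Modules,
    ExtPow.IsExtPow p (Omega.sheaf (X ↘ Spec (CommRingCat.of k))) E →
      Subsingleton (Coh.HH X (tensor E (CohB1.tensorPow (ClSub.idealMod I) j)) q))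

/-- The restriction of the ideal. -/
abbrev NY : I.subscheme.Modules := (Scheme.Modules.pullback I.subschemeι).obj (ClSub.idealMod I)

include hover hI n in
/-- The sequence of exterior powers of the conormal sequence. -/
theorem exists_seq (r : ℕ) {F F' : I.subscheme.Modules}
    (hF : ExtPow.IsExtPow (r + 1) (Omega.sheaf (I.subscheme ↘ Spec (CommRingCat.of k))) F)
    (hF' : ExtPow.IsExtPow r (Omega.sheaf (I.subscheme ↘ Spec (CommRingCat.of k))) F') {E : X.Modules}
    (hE : ExtPow.IsExtPow (r + 1) (Omega.sheaf (X ↘ Spec (CommRingCat.of k))) E) :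
    ∃ (a : tensor (NY I) F' ⟶ (Scheme.Modules.pullback I.subschemeι).obj E)
      (b : (Scheme.Modules.pullback I.subschemeι).obj E ⟶ F) (w : a ≫ b = 0),
      (ShortComplex.mk a b w).ShortExact := by
  haveI : IsSeparated (I.subscheme ↘ Spec (CommRingCat.of k)) := hover ▸ inferInstance
  let g := X ↘ Spec (CommRingCat.of k)
  let f := I.subscheme ↘ Spec (CommRingCat.of k)
  obtain ⟨φ, c, w, hS⟩ := H17.FLI.exists_conormal_ses g f I.subschemeι hover.symm n
  have hq : Coh.IsQCoh (Omega.sheaf g) := H29Omega.isQCoh_sheaf g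
  have hker : Omega.conormal I.subschemeι = NY I := by
    show (Scheme.Modules.pullback I.subschemeι).obj (ClSub.idealMod I.subschemeι.ker) = _
    rw [Scheme.IdealSheafData.ker_subschemeι]
  obtain ⟨a, b, w', h⟩ := exists_extPow_seq hS
    (by show FlatMod.IsFinLocFreeOfRank 1 (Omega.conormal I.subschemeι)
        rw [hker]
        exact H22Alg.PB.rank_one_of_isInvertible (H11Ample.isInvertible_pullback _ hI))
    (H16Derived.KFlat.Stalk.isFinLocFree_pullback I.subschemeι (locFree_of_rank (H28RR.isFinLocFreeOfRank_omega g (n + 1))))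
    (locFree_of_rank (H28RR.isFinLocFreeOfRank_omega f n)) r
    (H22Alg.ExtPowHom.isExtPow_pullback I.subschemeι hq hE) hF hF'
  let u : tensor (Omega.conormal I.subschemeι) F' ≅ tensor (NY I) F' :=
    PicGrp.tensorModIso (eqToIso hker) (Iso.refl F')
  exact ⟨u.inv ≫ a, b, by
      rw [Category.assoc]
      exact (congrArg (u.inv ≫ ·) w').trans comp_zero,
    ShortComplex.shortExact_of_iso (S₁ := ShortComplex.mk a b w')
      (ShortComplex.isoMk u (Iso.refl _) (Iso.refl _) (by simp) (by simp)) h⟩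

include hover hI hvan in
theorem subsingleton_twist : ∀ (r j q : ℕ), 1 ≤ j → r + q + 1 ≤ n → ∀ F : I.subscheme.Modules,
    ExtPow.IsExtPow r (Omega.sheaf (I.subscheme ↘ Spec (CommRingCat.of k))) F →
      Subsingleton (Coh.HH I.subscheme (tensor F (CohB1.tensorPow (NY I) j)) q) := by
  have hΩ : FlatMod.IsFinLocFree (Omega.sheaf (X ↘ Spec (CommRingCat.of k))) :=
    locFree_of_rank (H28RR.isFinLocFreeOfRank_omega _ (n + 1))
  have key : ∀ (p j q : ℕ), 1 ≤ j → p + q + 1 ≤ n → ∀ E : X.Modules,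
      ExtPow.IsExtPow p (Omega.sheaf (X ↘ Spec (CommRingCat.of k))) E →
        Subsingleton (Coh.HH I.subscheme
          (tensor ((Scheme.Modules.pullback I.subschemeι).obj E) (CohB1.tensorPow (NY I) j)) q) := by
    intro p j q hj hpq E hE
    have hG : FlatMod.IsFinLocFree (tensor E (CohB1.tensorPow (ClSub.idealMod I) j)) :=
      H16Derived.KFlat.Stalk.isFinLocFree_tensor (H22Alg.ExtPowHom.finLocFree_of_isExtPow hΩ hE)
        (H28Pinch.isFinLocFree_of_isInvertible (H11Ample.isInvertible_tensorPow hI j))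
    have h := subsingleton_restrict I hG q (hvan j hj p q (by omega) E hE)
      (subsingleton_HH_of_iso
        (PicGrp.tensorModIso (Iso.refl E) (Iso.refl _) ≪≫ (H10Coh.Tw.assoc E _ _).symm ≪≫
          H10Coh.Tw.commIso _ _ : tensor E (CohB1.tensorPow (ClSub.idealMod I) (j + 1)) ≅ _)
        (hvan (j + 1) (by omega) p (q + 1) (by omega) E hE))
    obtain ⟨e⟩ := H11Ample.exists_iso_pullback_tensorPow I.subschemeι hI j
    exact subsingleton_HH_of_iso
      ((H16Derived.KFlat.Stalk.pullTensorLIso I.subschemeι (CohB1.tensorPow (ClSub.idealMod I) j)).app E ≪≫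
        PicGrp.tensorModIso (Iso.refl _) e) h
  intro r
  induction r with
  | zero =>
    intro j q hj hq F hF
    obtain ⟨e⟩ := H22Alg.ExtPowHom.nonempty_iso (H22Alg.KExists.isExtPow_zero _) hF
    exact subsingleton_HH_of_iso (PicGrp.tensorModIso
      (H16Derived.KFlat.Stalk.structurePullbackIso I.subschemeι ≪≫ e) (Iso.refl _))
      (key 0 j q hj hq _ (H22Alg.KExists.isExtPow_zero _))
  | succ r ih =>
    intro j q hj hq F hF
    haveI : IsSeparated (I.subscheme ↘ Spec (CommRingCat.of k)) := hover ▸ inferInstance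
    obtain ⟨F', hF'⟩ := H22Alg.ExtPowSheaf.exists_isExtPow r
      (show Coh.IsQCoh (Omega.sheaf (I.subscheme ↘ Spec (CommRingCat.of k))) from H29Omega.isQCoh_sheaf _)
    obtain ⟨E, hE⟩ := H22Alg.ExtPowSheaf.exists_isExtPow (r + 1)
      (show Coh.IsQCoh (Omega.sheaf (X ↘ Spec (CommRingCat.of k))) from H29Omega.isQCoh_sheaf _)
    obtain ⟨a, b, w, hS⟩ := exists_seq I hover n hI r hF hF' hE
    have hS' := H16Derived.KFlat.Stalk.isFlatObj_of_isFlat
      (H16Derived.KFlat.Stalk.isFlat_of_isFinLocFree (H28Pinch.isFinLocFree_of_isInvertible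
        (H11Ample.isInvertible_tensorPow (H11Ample.isInvertible_pullback I.subschemeι hI) j))) _ hS
    exact H10Coh.HHSeq.subsingleton₃ hS' (key (r + 1) j q hj (by omega) E hE)
      (subsingleton_HH_of_iso ((H10Coh.Tw.assoc F' _ _).symm ≪≫ H10Coh.Tw.commIso _ _ ≪≫
          (H10Coh.Tw.assoc _ F' _).symm ≪≫ PicGrp.tensorModIso (Iso.refl _) (Iso.refl _) :
          tensor F' (CohB1.tensorPow (NY I) (j + 1)) ≅ _)
        (ih (j + 1) (q + 1) (by omega) (by omega) F' hF'))

include hover hI hvan in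
/-- Hodge numbers of the divisor in small degrees. -/
theorem finrank_eq (p q : ℕ) (hpq : p + q + 1 ≤ n) (F : I.subscheme.Modules)
    (hF : ExtPow.IsExtPow p (Omega.sheaf (I.subscheme ↘ Spec (CommRingCat.of k))) F)
    (E : X.Modules) (hE : ExtPow.IsExtPow p (Omega.sheaf (X ↘ Spec (CommRingCat.of k))) E) :
    Module.finrank k (Coh.HH I.subscheme F q) = Module.finrank k (Coh.HH X E q) := by
  have hΩ : FlatMod.IsFinLocFree (Omega.sheaf (X ↘ Spec (CommRingCat.of k))) :=
    locFree_of_rank (H28RR.isFinLocFreeOfRank_omega _ (n + 1))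
  have hEf := H22Alg.ExtPowHom.finLocFree_of_isExtPow hΩ hE
  let e1 : tensor E (CohB1.tensorPow (ClSub.idealMod I) 1) ≅ tensor (ClSub.idealMod I) E :=
    PicGrp.tensorModIso (Iso.refl E) (H10Coh.Tw.leftUnitIso _) ≪≫ H10Coh.Tw.commIso _ _
  rw [← finrank_restrict I hover hEf q (subsingleton_HH_of_iso e1 (hvan 1 le_rfl p q (by omega) E hE))
    (subsingleton_HH_of_iso e1 (hvan 1 le_rfl p (q + 1) (by omega) E hE))]
  cases p with
  | zero =>
    obtain ⟨e⟩ := H22Alg.ExtPowHom.nonempty_iso (H22Alg.KExists.isExtPow_zero _) hF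
    obtain ⟨e'⟩ := H22Alg.ExtPowHom.nonempty_iso hE (H22Alg.KExists.isExtPow_zero _)
    exact ((H10Coh.HHSeq.isoₗ (A := k) ((Scheme.Modules.pullback I.subschemeι).mapIso e' ≪≫
      H16Derived.KFlat.Stalk.structurePullbackIso I.subschemeι ≪≫ e) q).finrank_eq).symm
  | succ r =>
    haveI : IsSeparated (I.subscheme ↘ Spec (CommRingCat.of k)) := hover ▸ inferInstance
    obtain ⟨F', hF'⟩ := H22Alg.ExtPowSheaf.exists_isExtPow r
      (show Coh.IsQCoh (Omega.sheaf (I.subscheme ↘ Spec (CommRingCat.of k))) from H29Omega.isQCoh_sheaf _)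
    obtain ⟨a, b, w, hS⟩ := exists_seq I hover n hI r hF hF' hE
    let e2 : tensor F' (CohB1.tensorPow (NY I) 1) ≅ tensor (NY I) F' :=
      PicGrp.tensorModIso (Iso.refl F') (H10Coh.Tw.leftUnitIso _) ≪≫ H10Coh.Tw.commIso _ _
    exact (finrank_quot_eq (k := k) hS q
      (subsingleton_HH_of_iso e2 (subsingleton_twist I hover n hI hvan r 1 q le_rfl (by omega) F' hF'))
      (subsingleton_HH_of_iso e2 (subsingleton_twist I hover n hI hvan r 1 (q + 1) le_rfl (by omega) F' hF'))).symm

end Groth.Agent.H27Hodge
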