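import Groth.Agent.H16Derived.ExtSES
import Groth.Agent.H22Alg.PB.Kos
import Groth.Agent.H29CurveDual.Subcurve.Rank

/-!
# Exterior powers of an extension by a line bundle
-/

set_option autoImplicit false
set_option linter.style.haveILetI false
set_option backward.isDefEq.respectTransparency.types false
universe u

open CategoryTheory CategoryTheory.Limits AlgebraicGeometry Opposite TopologicalSpace
attribute [local instance] HasDerivedCategory.standard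

noncomputable section

namespace Groth.Agent.H27Hodge

open Groth.Agent.H16Derived.ExtSES

variable {X : Scheme.{u}}

theorem locFree_of_rank {M : X.Modules} {n : ℕ} (h : FlatMod.IsFinLocFreeOfRank n M) : FlatMod.IsFinLocFree M :=
  fun x => let ⟨U, hU⟩ := h x; ⟨U, n, hU⟩

/-- `0 → N ⊗ Λʳ C → Λʳ⁺¹ E → Λʳ⁺¹ C → 0` for an extension of a bundle `C` by a line bundle `N`. -/
theorem exists_extPow_seq {S : ShortComplex X.Modules} (hS : S.ShortExact)
    (h₁ : FlatMod.IsFinLocFreeOfRank 1 S.X₁) (h₂ : FlatMod.IsFinLocFree S.X₂) (h₃ : FlatMod.IsFinLocFree S.X₃)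
    (r : ℕ) {E C C' : X.Modules} (hE : ExtPow.IsExtPow (r + 1) S.X₂ E) (hC : ExtPow.IsExtPow (r + 1) S.X₃ C)
    (hC' : ExtPow.IsExtPow r S.X₃ C') :
    ∃ (a : CohB1.tensorMod S.X₁ C' ⟶ E) (b : E ⟶ C) (w : a ≫ b = 0), (ShortComplex.mk a b w).ShortExact := by
  classical
  have hq₁ := H8Props.FinLocFree.isQCoh_of_isFinLocFree _ (locFree_of_rank h₁)
  have hq₂ := H8Props.FinLocFree.isQCoh_of_isFinLocFree _ h₂
  have hq₃ := H8Props.FinLocFree.isQCoh_of_isFinLocFree _ h₃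
  choose LA hLA using fun i => H22Alg.ExtPowSheaf.exists_isExtPow i hq₁
  choose LE hLE using fun i => H22Alg.ExtPowSheaf.exists_isExtPow i hq₂
  choose LC hLC using fun i => H22Alg.ExtPowSheaf.exists_isExtPow i hq₃
  obtain ⟨PA, rfl⟩ := exists_pow LA hLA
  obtain ⟨PE, rfl⟩ := exists_pow LE hLE
  obtain ⟨PC, rfl⟩ := exists_pow LC hLC
  have hCf := fun j => H22Alg.ExtPowHom.finLocFree_of_isExtPow h₃ (PC.isExtPow j)
  have hz : IsZero (PA.obj 2) := H22Alg.PB.isZero_extPow_of_gt h₁ (PA.isExtPow 2) (by omega)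
  obtain ⟨θ₁, p₁, w₁, hS₁⟩ := step PA PE PC hS h₃ h₂ 1 r (r + 1) (by omega) (hCf r) (0 : PE.obj (r + 1) ⟶ PE.obj (r + 1))
    zero_comp (fun ψ _ => zero_comp) (fun b' h' => by
      have hz' : IsZero (H16Derived.KFlat.Stalk.tensor (PA.obj 2) (PE.obj b')) :=
        ((DCoh.tensorBi (X := X)).flip.obj (PE.obj b')).map_isZero hz
      rw [hz'.eq_zero_of_src (mu PA PE 2 b' (r + 1) h'), zero_comp])
  obtain ⟨θ₀, p₀, w₀, hS₀⟩ := step PA PE PC hS h₃ h₂ 0 (r + 1) (r + 1) (by omega) (hCf (r + 1))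
    (mu PA PE 1 r (r + 1) (by omega)) (mu_succ PA PE 0 (r + 1) r (r + 1) (by omega) (by omega))
    (fun ψ hψ => mu_psi PA PE PC hS 0 (r + 1) r (r + 1) (by omega) (by omega) ψ hψ)
    (fun b' h' => by
      obtain rfl : b' = r := by omega
      exact cokernel.condition _)
  haveI : Epi (mu PA PE 0 (r + 1) (r + 1) (by omega)) := epi_mu_zero PA PE (r + 1)
  haveI : IsIso θ₀ := hS₀.isIso_f_iff.2 (isZero_cokernel_of_epi _)
  obtain ⟨a1⟩ := H22Alg.ExtPowHom.nonempty_iso (PA.isExtPow 1) (H22Alg.KExists.isExtPow_one S.X₁)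
  obtain ⟨a0⟩ := H22Alg.ExtPowHom.nonempty_iso (PA.isExtPow 0) (H22Alg.KExists.isExtPow_zero S.X₁)
  obtain ⟨e2⟩ := H22Alg.ExtPowHom.nonempty_iso (PE.isExtPow (r + 1)) hE
  obtain ⟨c1⟩ := H22Alg.ExtPowHom.nonempty_iso (PC.isExtPow (r + 1)) hC
  obtain ⟨c0⟩ := H22Alg.ExtPowHom.nonempty_iso (PC.isExtPow r) hC'
  let u₁ : H16Derived.KFlat.Stalk.tensor (PA.obj 1) (PC.obj r) ≅ CohB1.tensorMod S.X₁ C' := PicGrp.tensorModIso a1 c0
  let u₂ : cokernel (0 : PE.obj (r + 1) ⟶ PE.obj (r + 1)) ≅ E := cokernelZeroIsoTarget ≪≫ e2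
  let u₃ : cokernel (mu PA PE 1 r (r + 1) (by omega)) ≅ C :=
    (asIso θ₀).symm ≪≫ PicGrp.tensorModIso a0 c1 ≪≫ H10Coh.Tw.leftUnitIso C
  exact ⟨u₁.inv ≫ θ₁ ≫ u₂.hom, u₂.inv ≫ p₁ ≫ u₃.hom, by simp [reassoc_of% w₁],
    ShortComplex.shortExact_of_iso (S₁ := ShortComplex.mk θ₁ p₁ w₁)
      (ShortComplex.isoMk u₁ u₂ u₃ (by simp) (by simp)) hS₁⟩

end Groth.Agent.H27Hodge
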