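import Groth.Agent.H27Hodge.Divisor
import Groth.Agent.H22Alg.ESZCM
import Groth.Agent.H22Alg.ESZPush
import Groth.Agent.H19Grp.RegularSmooth
import Groth.Agent.H4Depth.Regular
import Groth.Agent.H8Props.FieldDimSmooth
import Groth.Agent.H8Props.FlatDepth
import Groth.Agent.H28Int.Curves

/-!
# Negative twists of the differential forms of a smooth projective variety
-/

set_option autoImplicit false
set_option linter.style.haveILetI false
set_option backward.isDefEq.respectTransparency.types false
universe u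

open CategoryTheory CategoryTheory.Limits AlgebraicGeometry Opposite TopologicalSpace
open Groth.Agent

noncomputable section

namespace Groth.Agent.H27Hodge

variable {k : Type u} [Field k] {X : Scheme.{u}} [X.Over (Spec (CommRingCat.of k))]

theorem depth_closed_of_smooth (n : ℕ) [SmoothOfRelativeDimension (n + 1) (X ↘ Spec (CommRingCat.of k))] (x : X)
    (hx : IsClosed ({x} : Set X)) :
    (n : ℕ∞) < LocCoh.depth (X.presheaf.stalk x) (X.presheaf.stalk x) := by
  haveI : Smooth (X ↘ Spec (CommRingCat.of k)) := SmoothOfRelativeDimension.smooth (n + 1) _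
  haveI := H19Grp.isRegularLocalRing_stalk_of_smooth (X ↘ Spec (CommRingCat.of k)) x
  have hd := H8Props.FieldDim.localDim_eq_stalk_add_cdim (X ↘ Spec (CommRingCat.of k)) x
  rw [H8Props.FieldDim.localDim_eq_of_smooth (X ↘ Spec (CommRingCat.of k)) (n + 1),
    H28Int.Curves.cdim_closed (by exact hx), Nat.cast_zero, add_zero] at hd
  have h1 := (H8Props.FlatDepth.isCM_iff_dim _).1 (H4Depth.isCohenMacaulayLocalRing_of_regular (X.presheaf.stalk x))
  rw [← hd] at h1
  have h2 : LocCoh.depth (X.presheaf.stalk x) (X.presheaf.stalk x) = ((n + 1 : ℕ) : ℕ∞) :=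
    (WithBot.coe_inj.1 h1).symm
  rw [h2]
  exact_mod_cast Nat.lt_succ_self n

/-- Negative powers of an ample module kill the Hodge cohomology below the dimension. -/
theorem exists_bound_omega [IsProper (X ↘ Spec (CommRingCat.of k))] (n : ℕ)
    [SmoothOfRelativeDimension (n + 1) (X ↘ Spec (CommRingCat.of k))] {L M : X.Modules} (hL : CohB1.IsAmple L)
    (hM : ClSub.IsInverseOf L M) :
    ∃ d₀ : ℕ, ∀ d, d₀ ≤ d → ∀ p q : ℕ, p + q ≤ n → ∀ E : X.Modules,
      ExtPow.IsExtPow p (Omega.sheaf (X ↘ Spec (CommRingCat.of k))) E →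
        Subsingleton (Coh.HH X (CohB1.tensorMod E (CohB1.tensorPow M d)) q) := by
  haveI := H28Int.isNoetherian k (X := X)
  haveI : Smooth (X ↘ Spec (CommRingCat.of k)) := SmoothOfRelativeDimension.smooth (n + 1) _
  let Ω := Omega.sheaf (X ↘ Spec (CommRingCat.of k))
  have hΩ : FlatMod.IsFinLocFree Ω := locFree_of_rank (H28RR.isFinLocFreeOfRank_omega _ (n + 1))
  choose E₀ hE₀ using fun p => H22Alg.ExtPowSheaf.exists_isExtPow p (H8Props.FinLocFree.isQCoh_of_isFinLocFree _ hΩ)
  have hf := fun p => H22Alg.ExtPowHom.finLocFree_of_isExtPow hΩ (hE₀ p)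
  choose m hm using fun p => H22Alg.ESZ.exists_bound_ample k hL hM (H10Coh.Tw.isCoh_of_vb (hf p)) n
    (fun x hx => (depth_closed_of_smooth (k := k) n x hx).trans_le (H22Alg.ESZCM.depth_le_finLocFree (hf p) x))
  refine ⟨(Finset.range (n + 1)).sup m, fun d hd p q hpq E hE => ?_⟩
  obtain ⟨e⟩ := H22Alg.ExtPowHom.nonempty_iso (hE₀ p) hE
  exact subsingleton_HH_of_iso (PicGrp.tensorModIso e (Iso.refl _))
    (hm p d ((Finset.le_sup (Finset.mem_range.2 (by omega))).trans hd) q (by omega))

end Groth.Agent.H27Hodge
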